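import Cfsg.Agent.OM.Gl.Grp
import Cfsg.Agent.HZ.L.Reg.Main
import Cfsg.Agent.DL.PP.Reg

/-!
# OM (S4894): the regular embedding and the diagonal automorphisms (helper8)

* `exists_al` : the centraliser of `G ^ F` in `G` is the centre; `RegX`, `exists_regX`.
-/

set_option autoImplicit false
set_option linter.unusedSectionVars false

namespace Cfsg.Agent.OM.Gl

open Cfsg Subgroup Cfsg.Agent.DL Cfsg.Agent.DL.PP Cfsg.Agent.DL.St Cfsg.Agent.KZ.Lie Cfsg.Agent.Tits.Roots Cfsg.Agent.HZ.L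
  Cfsg.Agent.HZ.L.Reg Cfsg.Agent.Nodes.Reps Matrix

variable {p : ℕ} [Fact p.Prime] {k : Type} [Field k] [CharP k p] [IsAlgClosed k] {Y : Type} [Group Y] {N : Type}
  [Fintype N] [DecidableEq N] {ρ : Y →* GL N k} {F : MulAut Y} {G : Subgroup Y} {D : Datum p ρ F G}

/-- the centraliser of the finite group -/
theorem exists_al (h : D.QS) {z : Y} (hz : z ∈ G) (hc : ∀ g ∈ GF F G, g * z = z * g) : ∃ t, al D t = 1 ∧ z = D.τ t := by
  obtain ⟨a, ha⟩ := exists_fix_unit h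
  obtain ⟨v, hv, h1⟩ := exists_kap_fix h (a := fun i => a i) fun i => by
    rw [ha, Units.val_mul, Units.val_pow_eq_pow_val]
  have h2 : ∀ i, kap D i v ≠ 0 := fun i => by rw [h1]; exact (a i).ne_zero
  obtain ⟨u, hu, t, ht, e⟩ := (mem_Par_empty D.sbn).1 (mem_B_of_reg hv.1 h2 hz (by
    rw [mul_assoc, hc v hv.2, inv_mul_cancel_left]
    exact hv.1))
  obtain ⟨c, rfl⟩ := (D.mem_T t).1 ht
  have h3 : al D c = 1 := funext fun i => Units.ext (by
    have h4 := D.conj_mem_U_of_T ht hv.1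
    have h5 : kap D i (u * D.τ c * v * (u * D.τ c)⁻¹) = D.χ (sr i) (D.τ c) * kap D i v := by
      rw [show u * D.τ c * v * (u * D.τ c)⁻¹ = u * (D.τ c * v * (D.τ c)⁻¹) * u⁻¹ by group,
        kap_mul i (mul_mem hu h4) (inv_mem hu), kap_mul i hu h4, kap_inv i hu, kap_conj i ht hv.1]
      ring
    rw [← e, ← hc v hv.2, mul_inv_cancel_right] at h5
    exact (D.χ_τ _ c).symm.trans ((mul_eq_right₀ (h2 i)).1 h5.symm))
  obtain ⟨m, hm, hF⟩ := D.exists_rp_fix (map_w0 (cs := D.cs) (φ := D.Fw) h.Fw_simple)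
  have h4 : u = 1 := by
    refine opp D ⟨_, hm⟩ hm.pr_eq hu ?_
    have h5 := hc m ⟨hm.mem_G, hF⟩
    rw [e, mul_assoc u, ← central_of_al D h3 m hm.mem_G, ← mul_assoc, ← mul_assoc] at h5
    rwa [mul_assoc, ← mul_right_cancel h5, inv_mul_cancel_left]
  exact ⟨c, h3, by rw [e, h4, one_mul]⟩

variable (D) in
theorem exists_zz (y : YY D) : ∃ g ∈ G, ∃ s, y = iY D g * zz D s := by
  obtain ⟨g, hg, c, rfl⟩ := exists_iY_ta D y
  obtain ⟨s, hs⟩ := al_surj D (c ∘ Sum.inr)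
  have h := D.T_le_G (D.τ_mem (c ∘ Sum.inl * s⁻¹))
  exact ⟨_, mul_mem hg h, s, by rw [ta_eq D hs, iY_mul hg h, mul_assoc]⟩

theorem zz_mem (s : D.R → kˣ) : zz D s ∈ center (YY D) := mem_center_iff.2 fun y => (zz_comm D s y).eq.symm

theorem zz_def (s : D.R → kˣ) : zz D s = ta D (Sum.elim s (al D s)) := rfl

theorem FF_zz (s : D.R → kˣ) : FF D (zz D s) = zz D (mon D.Mx s) := by
  rw [zz_def, zz_def, FF_ta, mon_blocks, al_mon]
  rfl

theorem iY_cen {z : Y} (hz : z ∈ G) : iY D z ∈ center (YY D) ↔ ∀ y ∈ G, y * z = z * y :=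
  ⟨fun h y hy => iY_inj (D := D) (mul_mem hy hz) (mul_mem hz hy) (by rw [iY_mul hy hz, iY_mul hz hy, mem_center_iff.1 h]),
    fun h => mem_center_iff.2 fun y => by
      obtain ⟨g, hg, s, rfl⟩ := exists_zz D y
      rw [mul_assoc, (zz_comm D s _).eq, ← mul_assoc, ← mul_assoc, ← iY_mul hg hz, ← iY_mul hz hg, h g hg]⟩

theorem lang_cen {g : Y} (hg : g ∈ G) {s : D.R → kˣ} (h : FF D (iY D g * zz D s) = iY D g * zz D s) :
    ∀ y ∈ G, y * (g⁻¹ * F g) = g⁻¹ * F g * y := by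
  rw [map_mul, FF_iY D hg, FF_zz, ← eq_mul_inv_iff_mul_eq, mul_assoc, ← inv_mul_eq_iff_eq_mul, ← iY_inv hg,
    ← iY_mul (inv_mem hg) (D.F_mem_G hg)] at h
  exact (iY_cen (mul_mem (inv_mem hg) (D.F_mem_G hg))).1 (h ▸ mul_mem (zz_mem _) (inv_mem (zz_mem _)))

theorem exists_fix (hq : D.QS) {g : Y} (hg : g ∈ G) (h : ∀ y ∈ G, y * (g⁻¹ * F g) = g⁻¹ * F g * y) :
    ∃ s, FF D (iY D g * zz D s) = iY D g * zz D s := by
  obtain ⟨t, h1, h2⟩ := exists_al hq (mul_mem (inv_mem hg) (D.F_mem_G hg)) fun y hy => h y hy.1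
  obtain ⟨s, h3⟩ := mon_surj D.det_Mx_sub_one_ne_zero t⁻¹
  rw [mon_sub, mon_one, mul_inv_eq_iff_eq_mul] at h3
  refine ⟨s, ?_⟩
  rw [map_mul, FF_iY D hg, FF_zz, inv_mul_eq_iff_eq_mul.1 h2, iY_mul hg (D.T_le_G (D.τ_mem t)), mul_assoc, ← ta_elim, h3,
    zz_def, zz_def, ← map_mul, map_mul (al D), map_inv, h1, inv_one, one_mul]
  congr 2
  funext i
  rcases i with i | i
  · exact mul_inv_cancel_left _ _
  · exact one_mul _

theorem conj_zz (a x : YY D) (s : D.R → kˣ) : a * zz D s * x * (a * zz D s)⁻¹ = a * x * a⁻¹ := by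
  rw [mul_assoc a, (zz_comm D s x).eq]
  group

theorem comm_zz {g g' : Y} (hg : g ∈ G) (hg' : g' ∈ G) (s s' : D.R → kˣ) :
    iY D g * zz D s * (iY D g' * zz D s') * (iY D g * zz D s)⁻¹ * (iY D g' * zz D s')⁻¹ = iY D (g * g' * g⁻¹ * g'⁻¹) := by
  rw [iY_mul (mul_mem (mul_mem hg hg') (inv_mem hg)) (inv_mem hg'), iY_conj hg hg', iY_inv hg']
  exact cm_cen (by rw [inv_mul_cancel_left]; exact zz_mem s) (by rw [inv_mul_cancel_left]; exact zz_mem s')

theorem io_cen {z : ↥(GF F G)} (h : ∀ y ∈ G, y * z = z * y) : io D z ∈ center ↥(GF (FF D) ⊤) :=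
  mem_center_iff.2 fun y => Subtype.ext (mem_center_iff.1 ((iY_cen (D := D) z.2.1).2 h) y.1)

theorem io_cent (hq : D.QS) (y : ↥(GF (FF D) ⊤)) (h : ∀ x, y * io D x = io D x * y) : y ∈ center ↥(GF (FF D) ⊤) := by
  obtain ⟨g, hg, s, e⟩ := exists_zz D y
  obtain ⟨t, h1, rfl⟩ := exists_al hq hg fun x hx => iY_inj (D := D) (mul_mem hx.1 hg) (mul_mem hg hx.1) (by
    have h1 : (y : YY D) * iY D x = iY D x * y := congrArg Subtype.val (h ⟨x, hx⟩)
    rw [e, mul_assoc, (zz_comm D s _).eq, ← mul_assoc, ← mul_assoc, mul_left_inj] at h1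
    rw [iY_mul hg hx.1, iY_mul hx.1 hg, h1])
  exact mem_center_iff.2 fun x => Subtype.ext (mem_center_iff.1 (show (y : YY D) ∈ center _ from
    e ▸ mul_mem ((iY_cen hg).2 (central_of_al D h1)) (zz_mem s)) x)

theorem io_cmp (hq : D.QS) (β : MulAut Y) (h1 : ∀ y, β (F y) = F (β y)) (h2 : ∀ y, β y ∈ G ↔ y ∈ G)
    {b : ↥(GF F G) → ↥(GF F G)} (hb : ∀ x, (b x : Y) = β x) : Cmp (io D) b := by
  choose g hg s e using fun y : ↥(GF (FF D) ⊤) => exists_zz D y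
  have h3 := fun y => (h2 _).2 (hg y)
  choose t ht using fun y : ↥(GF (FF D) ⊤) => exists_fix hq (h3 y) fun x hx => by
    obtain ⟨x, rfl⟩ := β.surjective x
    rw [← h1, ← map_inv, ← map_mul, ← map_mul, ← map_mul, lang_cen (hg y) (e y ▸ y.2.2) x ((h2 x).1 hx)]
  refine ⟨fun y => ⟨_, trivial, ht y⟩, fun y x x' h => Subtype.ext ?_, fun y y' x h => Subtype.ext ?_⟩
  · have h4 : iY D x' = y * iY D x * (y : YY D)⁻¹ := congrArg Subtype.val h
    rw [e, conj_zz, ← iY_conj (hg y) x.2.1] at h4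
    refine Eq.trans ?_ (conj_zz _ (iY D (b x)) (t y)).symm
    rw [← iY_conj (h3 y) (b x).2.1, hb, ← map_inv, ← map_mul, ← map_mul,
      ← iY_inj x'.2.1 (mul_mem (mul_mem (hg y) x.2.1) (inv_mem (hg y))) h4, ← hb]
    rfl
  · have h4 : iY D x = y * y' * (y : YY D)⁻¹ * (y' : YY D)⁻¹ := congrArg Subtype.val h
    rw [e y, e y', comm_zz (hg y) (hg y')] at h4
    refine Eq.trans ?_ (comm_zz (h3 y) (h3 y') (t y) (t y')).symm
    rw [← map_inv, ← map_inv, ← map_mul, ← map_mul, ← map_mul,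
      ← iY_inj x.2.1 (mul_mem (mul_mem (mul_mem (hg y) (hg y')) (inv_mem (hg y))) (inv_mem (hg y'))) h4, ← hb]
    rfl

variable [Fintype ↥(GF F G)] {f : Fr D} {j : ℕ} {B : Mat D.R}

attribute [local instance] Reg.gY Reg.fN Reg.dN Reg.fin

/-- the properties of the standard regular embedding -/
structure RegX (R : Reg D f j B) : Prop where
  cen : ∀ z : ↥(GF F G), (∀ y ∈ G, y * z = z * y) → R.ι z ∈ center _
  cent : ∀ y, (∀ x, y * R.ι x = R.ι x * y) → y ∈ center _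
  cmp : ∀ β : MulAut Y, (∀ y, β (F y) = F (β y)) → (∀ y, β y ∈ G ↔ y ∈ G) → ∀ b : ↥(GF F G) → ↥(GF F G),
    (∀ x, (b x : Y) = β x) → Cmp R.ι b
  /-- the cocharacter lattice is a direct summand -/
  sp : ∃ P : Matrix D.R R.D'.R ℤ, P * R.J = 1
  /-- the simple coroots -/
  cw : ∃ e : D.I ≃ R.D'.I, ∀ i, R.D'.cw (e i) = R.J *ᵥ D.cw i

theorem exists_regX (h : St D j B) (f : Fr D) : ∃ R : Reg D f j B, RegX R := by
  obtain ⟨Q, hQ⟩ := exists_B h
  have := (DD D).amb.finite_GF ⊤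
  have := Fintype.ofFinite ↥(GF (FF D) ⊤)
  exact ⟨{
    Y' := YY D, N' := N ⊕ D.I, ρ' := rh D, F' := FF D, G' := ⊤, D' := DD D, f' := fr f, B' := _, st := hQ
    cz := cz_DD D, J := Jm D, hB := blocks_Jm D B Q, ω := MulEquiv.refl _, hω := Wm_Jm D
    e := (rtE D).symm.trans (rtE (DD D))
    e₁ := fun a => by
      obtain ⟨b, rfl⟩ := (rtE D).surjective a
      rw [Equiv.trans_apply, Equiv.symm_apply_apply]
      exact vecMul_Jm D _ _
    e₂ := fun a => by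
      obtain ⟨b, rfl⟩ := (rtE D).surjective a
      rw [Equiv.trans_apply, Equiv.symm_apply_apply]
      exact cor_DD D b.2
    ι := io D
    inj := fun a b e => Subtype.ext (iY_inj a.2.1 b.2.1 (congrArg Subtype.val e))
    comm := fun g hg => mem_range_io (Abelianization.commutator_subset_ker ((nu D).comp (Subgroup.subtype _)) hg)
    res := RW_io f
    lift := fun _ _ => exists_lift
    lin := exists_lin f h.qs }, fun _ => io_cen, io_cent h.qs, fun β h1 h2 _ => io_cmp h.qs β h1 h2,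
    ⟨fromCols 1 0, (fromCols_mul_fromRows _ _ _ _).trans (by rw [Matrix.mul_one, Matrix.mul_zero, add_zero])⟩,
    Equiv.refl _, fun _ => (Jm_mulVec D _).symm⟩

end Cfsg.Agent.OM.Gl
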