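import Cfsg.Agent.OM.Gl.Main
import Cfsg.Agent.OM.Lie.Defs
import Cfsg.Agent.OM.On.Ty

/-!
# OM (S4894): the bridge to the box of the folder `OM/Lie` (helper8)

* `sc_of`, `Top.ty0`, `boxQ_of`, `lg_of'`.
-/

set_option autoImplicit false
set_option linter.unusedSectionVars false

namespace Cfsg.Agent.OM.Gl

open Cfsg Cfsg.Agent.DL Cfsg.Agent.DL.PP Cfsg.Agent.KZ.Lie Cfsg.Agent.HZ.L Cfsg.Agent.OM.Au Cfsg.Agent.TO.X.Cn
  Cfsg.Agent.Tits.Roots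

section

variable {p : ℕ} [Fact p.Prime] {k : Type} [Field k] [CharP k p] [IsAlgClosed k] {Y : Type} [Group Y] {N : Type}
  [Fintype N] [DecidableEq N] {ρ : Y →* GL N k} {F : MulAut Y} {G : Subgroup Y} {D : Datum p ρ F G}

/-- the coroot lattice -/
theorem mem_span_iff {v : Vec D.R} : v ∈ Submodule.span ℤ (Prod.snd '' rts D) ↔ ∃ β, v = cl D β := by
  refine ⟨fun h => ?_, fun ⟨β, h⟩ => h ▸ Submodule.sum_mem _ fun i _ => Submodule.smul_mem _ _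
    (Submodule.subset_span ⟨_, rt_mem (isRoot_sr D.cs D.h i), D.cor_sr i⟩)⟩
  induction h using Submodule.span_induction with
  | mem x hx =>
    obtain ⟨_, ⟨_, ⟨w, i, rfl⟩, rfl⟩, rfl⟩ := hx
    obtain ⟨β, h⟩ := exists_cl D (D.cw i) w
    exact ⟨sr i + β, (D.cor_act_sr w i).trans (h.trans (by rw [cl_add, cl_sr]))⟩
  | zero => exact ⟨0, (cl_zero D).symm⟩
  | add x y _ _ a b =>
    obtain ⟨β, rfl⟩ := a
    obtain ⟨γ, rfl⟩ := b
    exact ⟨_, (cl_add D β γ).symm⟩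
  | smul m x _ a =>
    obtain ⟨β, rfl⟩ := a
    exact ⟨_, (cl_smul D m β).symm⟩

theorem sc_of (h : Pi1 D 1) {l : ℕ} (hl : l ≠ 0) : Lie.SC l (rts D) := fun v hv => by
  obtain ⟨β, e⟩ := mem_span_iff.1 hv
  obtain ⟨γ, h1⟩ := h v l β (Nat.cast_ne_zero.2 hl) e
  exact mem_span_iff.2 ⟨γ, by rw [← h1, Nat.cast_one, one_smul]⟩

theorem Top.ty0 (h : Top (rts D)) : Lie.Ty0 (rts D) := by
  rcases h with h | h | h | h | h | h | h
  exacts [.inl (.inl h), .inr (.inr (.inr h)), .inr (.inr (.inl h)), .inl (.inl ((On.boxTy D).d4 h)),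
    .inl (.inr ((On.boxTy D).e6 h)), .inl (.inr ((On.boxTy D).e7 h)), .inr (.inl h)]

end

/-- **the bridge** -/
theorem boxQ_of (h : ∀ (p : ℕ) [Fact p.Prime], AllD p fun D => Lie.BoxQ D) : BoxQ :=
  fun p _ _ _ _ _ _ _ _ _ _ _ _ _ D _ j B h1 h2 h3 h4 f l M hM hl 𝔅 h5 h6 =>
    h p D j B l ⟨h1, cz_of h2, sc_of h3 hM.1.ne_zero, h4.ty0, hM.1, hl⟩ M hM f 𝔅 h5 h6

/-- **the generic rows** -/
theorem lg_of' (E : Data) (h : ∀ (p : ℕ) [Fact p.Prime], AllD p fun D => Lie.BoxQ D) (h2 : Tf4) : Lg :=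
  lg_of E (boxQ_of h) h2

end Cfsg.Agent.OM.Gl
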