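import Cfsg.Agent.OM.Gl.Sc
import Cfsg.Agent.OM.On.Defs
import Cfsg.Agent.KZ.DatX.Gr

/-!
# OM (S4894): the interface of the last step (helper8)

* `Top Ψ` : the types of the simple groups; `Dat r S`, `Data` : the simply connected data with their automorphisms;
* `BoxQ`, `BoxQ2` : the property `QQ` implies equal degrees.
-/

set_option autoImplicit false
set_option linter.unusedSectionVars false

namespace Cfsg.Agent.OM.Gl

open Cfsg Cfsg.Agent.DL Cfsg.Agent.DL.PP Cfsg.Agent.KZ.Lie Cfsg.Agent.HZ.L Cfsg.Agent.OM.Au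

/-- the types of the simple groups -/
def Top {R : Type} [Fintype R] [DecidableEq R] (Ψ : RS R) : Prop :=
  On.Cl Ψ ∨ Iso Ψ U.PG2 ∨ Iso Ψ U.PF4 ∨ Iso Ψ U.PD4 ∨ Iso Ψ U.PE6 ∨
    Iso Ψ (U.Ph Lie.chevE7 7 (ChevalleyStructure.CoxeterGeomTypes.cartanOf Lie.chevE7 7)) ∨ Iso Ψ U.PE8

/-- a simply connected datum for `S` -/
def Dat (r : ℕ) [Fact r.Prime] (S : Type) [Group S] : Prop :=
  ∃ (k : Type) (_ : Field k) (_ : CharP k r) (_ : IsAlgClosed k) (Y : Type) (_ : Group Y) (N : Type) (_ : Fintype N)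
    (_ : DecidableEq N) (ρ : Y →* GL N k) (F : MulAut Y) (G : Subgroup Y) (D : Datum r ρ F G), Nonempty (ScA D S) ∧
    (∃ j B, St D j B) ∧ Top (rts D)

/-- the list of the data -/
structure Data : Prop where
  psl : ∀ (r : ℕ) [Fact r.Prime] (F : Type) [Field F] [Fintype F] [CharP F r] (n : ℕ), 2 ≤ n →
    (n = 2 → 4 ≤ Fintype.card F) → Dat r (Matrix.ProjectiveSpecialLinearGroup (Fin n) F)
  psp : ∀ (r : ℕ) [Fact r.Prime] (F : Type) [Field F] [Fintype F] [CharP F r] (m : ℕ), 2 ≤ m →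
    (m = 2 → 3 ≤ Fintype.card F) → Dat r (PSp m F)
  psu : ∀ (r : ℕ) [Fact r.Prime] (F : Type) [Field F] [Fintype F] [CharP F r] (n q : ℕ),
    Fintype.card F = q ^ 2 → 3 ≤ n → ¬ (n = 3 ∧ q = 2) → Dat r (PSU n F q)
  oodd : ∀ (r : ℕ) [Fact r.Prime] (F : Type) [Field F] [Fintype F] [CharP F r] (m : ℕ), 3 ≤ m →
    Odd (Fintype.card F) → Dat r (POmega F (quadFormOdd m F))
  oplus : ∀ (r : ℕ) [Fact r.Prime] (F : Type) [Field F] [Fintype F] [CharP F r] (m : ℕ), 4 ≤ m →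
    Dat r (POmega F (quadFormPlus m F))
  ominus : ∀ (r : ℕ) [Fact r.Prime] (F : Type) [Field F] [Fintype F] [CharP F r] (m : ℕ)
    (a b : F), 4 ≤ m → (∀ z₁ z₂ : F, z₁ ^ 2 + a * z₁ * z₂ + b * z₂ ^ 2 = 0 → z₁ = 0 ∧ z₂ = 0) →
    Dat r (POmega F (quadFormMinus (m - 1) F a b))
  e6 : ∀ (r : ℕ) [Fact r.Prime] (F : Type) [Field F] [Fintype F] [CharP F r], Dat r (Lie.chevE6.group F)
  e7 : ∀ (r : ℕ) [Fact r.Prime] (F : Type) [Field F] [Fintype F] [CharP F r], Dat r (Lie.chevE7.group F)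
  te6 : ∀ (r : ℕ) [Fact r.Prime] (F : Type) [Field F] [Fintype F] [CharP F r] (q : ℕ),
    IsPrimePow q → Fintype.card F = q ^ 2 → Dat r (Lie.twistedE6 F q)
  td4 : ∀ (r : ℕ) [Fact r.Prime] (F : Type) [Field F] [Fintype F] [CharP F r] (q : ℕ),
    IsPrimePow q → Fintype.card F = q ^ 3 → Dat r (Lie.twistedD4 F q)

section

variable {p : ℕ} [Fact p.Prime] {k : Type} [Field k] [CharP k p] [IsAlgClosed k] {Y : Type} [Group Y] {N : Type}
  [Fintype N] [DecidableEq N] {ρ : Y →* GL N k} {F : MulAut Y} {G : Subgroup Y} (D : Datum p ρ F G) [Fintype ↥(GF F G)]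

/-- the blocks with the property `QQ` have equal degrees -/
def QE : Prop := ∀ (f : Fr D) (l : ℕ) (M : Ideal AlgInt), IsPModular l M → l ≠ p →
  ∀ B : Set (IrrCharacter ↥(GF F G)), IsPBlock M B → QQ f B → EqD B

end

/-- **connected centre and simply connected derived group** -/
def BoxQ : Prop := ∀ (p : ℕ) [Fact p.Prime],
  AllD p fun D => ∀ j B, St D j B → CZ D → TO.X.Cn.Pi1 D 1 → Top (rts D) → QE D

/-- **the large Ree groups** -/
def BoxQ2 : Prop := ∀ m : ℕ, 1 ≤ m → ∀ (k : Type) [Field k] [CharP k 2] [IsAlgClosed k]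
  (X : KZ.DatX.XF KZ.DatX.hpF4 2 k ((2 : ℤ) ^ m • KZ.DatX.GamF)) [Fintype ↥(GF X.F ⊤)], QE X.D

end Cfsg.Agent.OM.Gl
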