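import Cfsg.Agent.OM.Gl.Defs
import Cfsg.Agent.OM.Au.Main
import Cfsg.Agent.KZ.DatX.Main
import Cfsg.Agent.KZ.DatX.Three
import Cfsg.Agent.H95.StemCover
import Cfsg.Agent.S2100
import Cfsg.Agent.S2101
import Cfsg.Agent.S2102
import Cfsg.Agent.S2103
import Cfsg.Agent.S2104
import Cfsg.Agent.S2107
import Cfsg.Agent.S2114

/-!
# OM (S4894): the rows `G₂`, `F₄`, `E₈`, `²F₄` (helper8)
-/

set_option autoImplicit false
set_option linter.unusedSectionVars false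

namespace Cfsg.Agent.OM.Gl

open Cfsg Subgroup Cfsg.Lie Cfsg.Agent.DL Cfsg.Agent.DL.PP Cfsg.Agent.KZ.Lie Cfsg.Agent.HZ.L Cfsg.Agent.OM.Au Matrix
  Cfsg.Agent.KZ.DatX Cfsg.Agent.Characters.Core Cfsg.Agent.Blocks.Basic Cfsg.Agent.TO.X.Cn Cfsg.Agent.Nodes.RGDChev
  Cfsg.Agent.ChevalleyStructure.NPerm Cfsg.Agent.ChevalleyStructure.CoxeterGeomTypes

section

variable {p : ℕ} [Fact p.Prime] {k : Type} [Field k] [CharP k p] [IsAlgClosed k] {Y : Type} [Group Y] {N : Type}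
  [Fintype N] [DecidableEq N] {ρ : Y →* GL N k} {F : MulAut Y} {G : Subgroup Y} {D : Datum p ρ F G} {S : Type} [Group S]
  {l n j : ℕ}

/-- the exponents are determined by the matrix -/
theorem st_of (hc : ∀ i, ∃ x, x ⬝ᵥ D.cw i = 1) (hj : 0 < j) (hq : D.QS) (hM : D.Mx = ((p : ℤ) ^ j) • (1 : Mat D.R)) :
    St D j 1 := by
  refine ⟨hj, hM, hq, ⟨1, one_pos, one_pow 1⟩, fun a ha => ?_⟩
  have h0 : ∀ t, (p : ℤ) ^ t ≠ 0 := fun t => pow_ne_zero _ (Nat.cast_ne_zero.2 (Fact.out : p.Prime).ne_zero)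
  have h1 : ∀ b, D.Rt b → ∀ t v, D.cor b ≠ (p : ℤ) ^ (t + 1) • v := by
    rintro _ ⟨w, i, rfl⟩ t v e
    obtain ⟨x, hx⟩ := hc i
    have h2 := congrArg (fun u => x ⬝ᵥ D.Wm w⁻¹ *ᵥ u) ((D.cor_act_sr w i).symm.trans e)
    simp only [mulVec_mulVec, ← D.Wm_mul, inv_mul_cancel, D.Wm_one, one_mulVec, hx, mulVec_smul, dotProduct_smul,
      smul_eq_mul, pow_succ', mul_assoc] at h2
    exact (Fact.out : p.Prime).not_dvd_one (Int.natCast_dvd_natCast.1 ⟨_, h2⟩)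
  have h2 := D.Mx_cor ha
  rw [hM, smul_mulVec, one_mulVec] at h2
  rcases lt_trichotomy (D.ex a) j with h | h | h
  · obtain ⟨t, rfl⟩ := Nat.exists_eq_add_of_lt h
    rw [add_assoc, pow_add, mul_smul] at h2
    exact absurd (smul_right_injective _ (h0 _) h2).symm (h1 _ (D.g_root a ha) _ _)
  · exact h
  · obtain ⟨t, ht⟩ := Nat.exists_eq_add_of_lt h
    rw [ht, add_assoc, pow_add, mul_smul] at h2
    exact absurd (smul_right_injective _ (h0 _) h2) (h1 a ha _ _)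

/-- **the row if the simple group is `G ^ F`** -/
theorem covG_ad [Fintype ↥(GF F G)] {T : Subgroup Y} {ι : S →* Y} (O : Ex.Over F G T ι 1) (hq : D.QS)
    (ha : ∀ σ : MulAut S, ∃ g ∈ GF F G, ∃ α A, Au D α A ∧ ∀ s, ι (σ s) = g * α (ι s) * g⁻¹)
    (hA : HasCyclicSchurMultiplier S n) (hn : n ∣ p) (hl : l ≠ p) (hQ : QE D) : CovG p l S := fun X _ _ σ M Γ b _ H hZ => by
  have hp : p.Prime := Fact.out
  have := Fact.mk H.hM.1
  have := H.hM.2.1.isPrime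
  have h0 := H.sit.qs.1.commutator_eq_top
  have h1 : σ.ker = ⊥ := card_eq_one.1 (((Nat.dvd_prime hp).1
    ((H95.StemCover.card_ker_dvd_cyclic hA h0 σ H.surj H.ker.le).trans hn)).resolve_right fun e => hZ (H.ker ▸ e.symm.dvd))
  let e₀ := MulEquiv.ofBijective σ ⟨(MonoidHom.ker_eq_bot_iff σ).1 h1, H.surj⟩
  let e := e₀.trans O.equiv
  have h2 : ∀ x, (e x : Y) = ι (σ x) := fun _ => rfl
  obtain ⟨f⟩ := nonempty_fr D
  obtain ⟨θ, hθ⟩ := isPBlock_nonempty H.hb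
  have h3 : ∀ x, e.symm.toMonoidHom x = 1 → x ∈ center ↥(GF F G) := fun x hx =>
    (map_eq_one_iff _ e.symm.injective).1 hx ▸ one_mem _
  refine lift_of_eq_deg H.hM Γ e.symm.toMonoidHom e.symm.surjective (.id _) H.sit.ndvd Function.injective_id ?_ h3
    (fun y hy => mem_center_iff.2 fun x => (hy x).symm) (fun x _ => ⟨x, rfl⟩)
    (fun α _ => ⟨MulAut.congr e α, fun x => by simp, MulAut.congr e α, fun y x x' h => by simpa using congrArg (MulAut.congr e α) h,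
      fun y y' x h => by simpa using congrArg (MulAut.congr e α) h⟩) H.hb hθ fun B χ hB hχ h => hQ f l M H.hM hl B hB ?_
  · rw [commutator_def, ← map_top_of_surjective e.toMonoidHom e.surjective, ← map_commutator, ← commutator_def, h0]
  rw [isPBlock_eq_blockOf hB hχ, ← congrArg Subtype.val ((Gen.Cov.ov_self (ι := .id _) (θ := χ) (fun _ => rfl)
    ⟨_, isIrr_comp e.symm.toMonoidHom e.symm.surjective θ.2⟩).1 h)]
  refine QQ.of_Pc fun a h4 => of_one H.hM H.hb H.one e.symm.surjective h3 (fun x hx h5 => ?_) (fun α _ => ?_) hθ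
  · obtain ⟨n, hn⟩ := (dG_supp hx).1
    rw [orderOf_coe] at hn
    exact hl ((Nat.prime_dvd_prime_iff_eq H.hM.1 hp).1 (H.hM.1.dvd_of_dvd_pow (hn ▸ h5)))
  obtain ⟨g, hg, β, A, h5, h6⟩ := ha (MulAut.congr e₀ α)
  refine ⟨(MulAut.congr e α).toEquiv, e.surjective.forall.2 fun x => ⟨?_, fun _ => by simp⟩⟩
  have h7 : MulAut.congr e α (e x) = ⟨g, hg⟩ * h5.aut (e x) * (⟨g, hg⟩ : ↥(GF F G))⁻¹ := Subtype.ext (by
    refine Eq.trans ?_ (h6 (σ x))
    change ι (σ (α (e.symm (e x)))) = ι (σ (α (e₀.symm (e₀ x))))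
    rw [e.symm_apply_apply, e₀.symm_apply_apply])
  change dG f a (MulAut.congr e α (e x)) = _
  rw [h7, dG_conj, dG_aut hq h4 h5]

end

variable {C : ChevalleyDatum} {n : ℕ} {Mc : CoxeterMatrix (Fin n)} {hp : IsType C n Mc} {r l e c : ℕ} [Fact r.Prime]
  {Adm : Matrix (Fin n) (Fin n) ℤ → Prop} {S : Type} [Group S]

theorem covG_has {Mx : Matrix (Fin n) (Fin n) ℤ} (h : Has hp r Mx Adm 1 S) (hA : HasCyclicSchurMultiplier S c) (hc : c ∣ r)
    (hl : l ≠ r) (hQ : ∀ (k : Type) [Field k] [CharP k r] [IsAlgClosed k] (X : XF hp r k Mx) [Fintype ↥(GF X.F ⊤)], QE X.D) :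
    CovG r l S := by
  obtain ⟨k, _, _, _, X, ⟨s⟩⟩ := h
  have := X.finite
  have := Fintype.ofFinite ↥(GF X.F ⊤)
  exact covG_ad s.ov X.D_qs (fun σ => let ⟨g, h1, α, A, h2, _, h3⟩ := s.aut σ; ⟨g, h1, α, A, h2, h3⟩) hA hc hl (hQ k X)

theorem covG_split (hQ : BoxQ) {B : Fin n → Fin n → ℤ} (hB : U.FB C n B) (hT : Top (U.Ph C n B)) (h1 : PM C n 1) (he : 0 < e)
    (h : Has hp r ((r : ℤ) ^ e • 1) Adm 1 S) (hA : HasCyclicSchurMultiplier S c) (hc : c ∣ r) (hl : l ≠ r) : CovG r l S :=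
  covG_has h hA hc hl fun _ _ _ _ X _ => hQ r X.D e 1 (st_of (fun (i : Fin n) => by
      obtain ⟨V, hV⟩ := h1
      have h2 : Matrix.of V * Matrix.of (cartanOf C n) = 1 := Matrix.ext fun a b => hV a b
      have h3 : cartanOf C n i ⬝ᵥ (Matrix.of V)ᵀ i = 1 :=
        (show (Matrix.of (cartanOf C n) * Matrix.of V) i i = 1 by rw [mul_eq_one_comm.1 h2, one_apply_eq])
      exact ⟨(Matrix.of V)ᵀ i, (dotProduct_comm _ _).trans h3⟩) he X.D_qs X.D_Mx)
    ⟨0, fun i => Pi.single i 1, fun b i => by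
      rw [pow_zero, one_mul]
      exact (dotProduct_single b 1 i).trans (mul_one _)⟩ (pi1 X h1) (U.rts_Ph X hB ▸ hT)

variable {F : Type} [Field F] [Fintype F]

theorem row_tf4 (hQ : BoxQ2) (hl : l ≠ 2) {m : ℕ} (hm : 1 ≤ m) (hF : Fintype.card F = 2 ^ (2 * m + 1)) :
    CovG 2 l (twistedF4 F (2 ^ m)) :=
  covG_has (has_2F4 hm hF) (S2114.result hm hF) (one_dvd _) hl (hQ m hm)

variable [CharP F r] (hQ : BoxQ) (hl : l ≠ r)
include hQ hl

theorem row_e8 : CovG r l (chevE8.group F) := by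
  obtain ⟨e, -, hF⟩ := FiniteField.card F r
  exact covG_split hQ U.fb_E8 (by simp only [Top, Iso.refl, or_true]) pm_E8 e.pos (has_E8 hF) S2107.result (one_dvd _) hl

theorem row_f4 : CovG r l (chevF4.group F) := by
  obtain ⟨e, hr, hF⟩ := FiniteField.card F r
  have h1 : ∃ c, HasCyclicSchurMultiplier (chevF4.group F) c ∧ c ∣ r := by
    by_cases h : Fintype.card F = 2
    · exact ⟨2, S2104.result h, Nat.prime_two.dvd_of_dvd_pow (hF ▸ h.symm.dvd)⟩
    · exact ⟨1, S2103.result (by have := Fintype.one_lt_card (α := F); omega), one_dvd _⟩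
  obtain ⟨c, h1, h2⟩ := h1
  have h3 : Top U.PF4 := by simp only [Top, Iso.refl, or_true, true_or]
  by_cases h : r = 2
  · subst h
    exact covG_split hQ U.fb_F4 h3 pm_F4 e.pos (has_F4two hF) h1 h2 hl
  · exact covG_split hQ U.fb_F4 h3 pm_F4 e.pos (has_F4 hF h) h1 h2 hl

theorem row_g2 (h0 : 3 ≤ Fintype.card F) : CovG r l (chevG2.group F) := by
  obtain ⟨e, hr, hF⟩ := FiniteField.card F r
  have h1 : ∃ c, HasCyclicSchurMultiplier (chevG2.group F) c ∧ c ∣ r := by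
    by_cases h : Fintype.card F = 3
    · exact ⟨3, S2101.result h, Nat.prime_three.dvd_of_dvd_pow (hF ▸ h.symm.dvd)⟩
    by_cases h : Fintype.card F = 4
    · exact ⟨2, S2102.result h, Nat.prime_two.dvd_of_dvd_pow (hF ▸ h ▸ (by norm_num : 2 ∣ 4))⟩
    · exact ⟨1, S2100.result (by omega), one_dvd _⟩
  obtain ⟨c, h1, h2⟩ := h1
  have h3 : Top U.PG2 := by simp only [Top, Iso.refl, or_true, true_or]
  by_cases h : r = 3
  · subst h
    exact covG_split hQ U.fb_G2 h3 pm_G2 e.pos (has_G2three hF) h1 h2 hl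
  · exact covG_split hQ U.fb_G2 h3 pm_G2 e.pos (has_G2 hF h h0) h1 h2 hl

end Cfsg.Agent.OM.Gl
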