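import Cfsg.Agent.OM.Gl.Defs
import Cfsg.Agent.OM.Au.Cov
import Cfsg.Agent.OM.Lo.Pr
import Cfsg.Agent.HZ.L.SL.Dat
import Cfsg.Agent.KZ.Dat.GlS
import Cfsg.Agent.ODD.Cov.Lin
import Cfsg.Agent.S2090
import Cfsg.Agent.S2116

/-!
# OM (S4894): the data of the linear and unitary groups (helper8)

* `lf_cen` : an element which lies in `G` modulo the centre; `dat_psl`, `dat_psu`.
-/

set_option autoImplicit false
set_option linter.unusedSectionVars false

namespace Cfsg.Agent.OM.Gl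

open Cfsg Subgroup Matrix Cfsg.Agent.DL Cfsg.Agent.DL.PP Cfsg.Agent.KZ.Lie Cfsg.Agent.HZ.L Cfsg.Agent.OM.Au Cfsg.Agent.KZ.Dat
  Cfsg.Agent.HZ.L.SL Cfsg.Agent.ODD.C2 Cfsg.Agent.ODD.C2.GlA Cfsg.Agent.ODD.Cv Cfsg.Agent.LangThm Cfsg.Agent.Nodes.RootsA

attribute [local instance] finite_WA

theorem mu_of_mb {p d a : ℕ} {S : Type} [Group S] [Finite S] (hS : commutator S = ⊤) (h : MB S (d * p ^ a)) : Mu p d S := by
  have h1 := H487.hasSchurMultiplier_MM S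
  obtain ⟨Γ, _, _, σ, hσ, ⟨e⟩⟩ := h1.1
  exact ⟨_, _, a, h1, Nat.card_congr e.toEquiv ▸ h Γ (H95.StemCover.perfect_of_stem hS hσ) σ hσ.1 hσ.2.1⟩

section gen

variable {p : ℕ} [Fact p.Prime] {k : Type} [Field k] [CharP k p] [IsAlgClosed k] {Y : Type} [Group Y] {N : Type}
  [Fintype N] [DecidableEq N] {ρ : Y →* GL N k} {F : MulAut Y} {G : Subgroup Y} {X : Datum p ρ F G} {T S : Type} [Group T]
  [Group S]

/-- an element which lies in `G` modulo the centre -/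
theorem lf_cen {ι : T →* Y} {q : T →* S} {σ : MulAut S} {s z : Y} (hs : s ∈ G) (hz : z ∈ center Y) (hg : F (s * z) = s * z)
    {α : MulAut Y} {A : Mat X.R} (h : Au X α A) (h1 : ∀ t, ∃ t', ι t' = s * z * α (ι t) * (s * z)⁻¹ ∧ q t' = σ (q t)) :
    KZ.Dat.Lf X (fun _ => True) ι q σ := by
  have h2 : s⁻¹ * F s ∈ center Y := by
    rw [show s⁻¹ * F s = z * (F z)⁻¹ by rw [inv_mul_eq_iff_eq_mul, ← mul_assoc, ← hg, map_mul, mul_inv_cancel_right]]
    exact mul_mem hz (inv_mem (mem_center_iff.2 (F.surjective.forall.2 fun y => by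
      rw [← map_mul, ← map_mul, mem_center_iff.1 hz])))
  obtain ⟨t, ht, h3⟩ := X.lang_T (X.centralizer_T.le ⟨G.mul_mem (G.inv_mem hs) (X.F_mem_G hs), fun y _ => mem_center_iff.1 h2 y⟩)
  obtain ⟨c, rfl⟩ := (X.mem_T t).1 ht
  refine ⟨s * (X.τ c)⁻¹, ⟨G.mul_mem hs (G.inv_mem (X.T_le_G ht)), ?_⟩, _, _,
    au_mul (au_conj (c := c) fun y => h3 ▸ (mem_center_iff.1 h2 y).symm) h, trivial, fun t => ?_⟩
  · change F (s * (X.τ c)⁻¹) = s * (X.τ c)⁻¹
    rw [map_mul, map_inv, ← mul_inv_cancel_left s (F s), ← mul_inv_cancel_left (X.τ c) (F (X.τ c)), ← h3, _root_.mul_inv_rev,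
      ← mul_assoc, mul_inv_cancel_right]
  · obtain ⟨t', e1, e2⟩ := h1 t
    refine ⟨t', ?_, e2⟩
    rw [e1, MulAut.mul_apply, MulAut.conj_apply, mul_assoc s z, ← mem_center_iff.1 hz]
    group

/-- quasisimple groups -/
theorem scA_q [Finite T] (ι : T →* Y) (inj : Function.Injective ι) (e : GF F G = ι.range) (perf : commutator T = ⊤)
    (hS : IsSimpleGroup (T ⧸ center T)) (ker : ∀ s ∈ center T, ι s ∈ center Y) {d a : ℕ}
    (hd : Nat.card (QuotientGroup.mk' (center T)).ker = d) (hp : ¬ p ∣ d) (hA : MB (T ⧸ center T) (d * p ^ a))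
    (aut : ∀ σ, KZ.Dat.Lf X (fun _ => True) ι (QuotientGroup.mk' (center T)) σ) (qs : X.QS) (nt : KM.Deg.NT p ρ F)
    (pi1 : TO.X.Cn.Pi1 X 1) (ss : ∀ v, Perp (rts X) v → v = 0) : Nonempty (ScA X (T ⧸ center T)) := by
  have h1 : commutator (T ⧸ center T) = ⊤ := by
    rw [H487.commutator_quot, perf, map_top_of_surjective _ (QuotientGroup.mk'_surjective _)]
  exact scA_of ι inj e _ hS (fun h => bot_ne_top ((commutator_eq_bot_iff _).2 h ▸ h1 :)) (QuotientGroup.mk'_surjective _)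
    (fun s hs y _ => mem_center_iff.1 (ker s ((QuotientGroup.eq_one_iff s).1 hs)) y) perf (hd ▸ hp) (hd ▸ mu_of_mb h1 hA)
    aut qs nt pi1 ss

end gen

variable {n p : ℕ} [Fact p.Prime] {k : Type} [Field k] [CharP k p] [IsAlgClosed k]

theorem sc_cen (a : kˣ) : (mnA n).τ k (coch 1 a) ∈ center (GL (Fin (n + 1)) k) :=
  mem_center_iff.2 fun y => (τ_scalar_comm a y).symm

theorem exists_split (g : GL (Fin (n + 1)) k) : ∃ s ∈ GS n k, ∃ z ∈ center (GL (Fin (n + 1)) k), g = s * z := by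
  obtain ⟨a, ha⟩ := IsAlgClosed.exists_pow_nat_eq (GeneralLinearGroup.det g : k) n.succ_pos
  have h0 : a ≠ 0 := fun h => (GeneralLinearGroup.det g).ne_zero (by rw [← ha, h, zero_pow n.succ_ne_zero])
  refine ⟨_, mem_GS.2 ?_, _, sc_cen (Units.mk0 a h0), (inv_mul_cancel_right _ _).symm⟩
  rw [map_mul, map_inv, det_τA, chr_coch, mul_inv_eq_one]
  exact Units.ext (by simp [← ha, ← zpow_natCast])

variable (hk : ∀ a : k, ∃ j, 0 < j ∧ a ^ p ^ j = a) {e : ℕ} (he : 0 < e) {α : MulAut (GL (Fin (n + 1)) k)}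
  {g : (Fin n → ℤ) → Fin n → ℤ} {B : Matrix (Fin n) (Fin n) ℤ} (S : (smS n).Sy (csA n) (isCartan n) α g B)

theorem lf_gl {T U : Type} [Group T] [Group U] {ι : T →* GL (Fin (n + 1)) k} {q : T →* U} {σ : MulAut U} {y : GL (Fin (n + 1)) k}
    (hy : y ∈ GF (α * frP _ p k e) (GA n k)) {β : MulAut (GL (Fin (n + 1)) k)} {A : Matrix (Fin n) (Fin n) ℤ}
    (h : Au (datS hk he S) β A) (h1 : ∀ t, ∃ t', ι t' = y * β (ι t) * y⁻¹ ∧ q t' = σ (q t)) :
    KZ.Dat.Lf (datS hk he S) (fun _ => True) ι q σ := by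
  obtain ⟨s, hs, z, hz, rfl⟩ := exists_split y
  exact lf_cen hs hz hy.2 h h1

include he S in
theorem ntS : KM.Deg.NT p (MonoidHom.id (GL (Fin (n + 1)) k)) (α * frP _ p k e) :=
  let ⟨d, hd, h1⟩ := isOfFinOrder_iff_pow_eq_one.1 S.fin
  ⟨e, d, he, hd, fun y => by rw [(S.commute e).mul_pow, h1, one_mul, frP_pow, mul_comm]; rfl⟩

theorem pi1S : TO.X.Cn.Pi1 (datS hk he S) 1 :=
  TO.X.Cn.pi1_of_mat _ (fun j i : Fin n => if j = i then 1 else 0) fun j m : Fin n => by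
    change ∑ i : Fin n, (if j = i then 1 else 0) * (Pi.single i 1 : Fin n → ℤ) m = if j = m then ((1 : ℕ) : ℤ) else 0
    simp [Pi.single_apply]

theorem ta_ss {R : Type} [Fintype R] [DecidableEq R] {Ψ : RS R} {B : Mat R} (T : TA Ψ B) (h : ∀ i j, T.blk i = T.blk j)
    (v : Vec R) (hv : Perp Ψ v) : v = 0 := T.inj v (funext fun i => by
  have h1 : ∀ j, (T.J *ᵥ v) j = (T.J *ᵥ v) i := fun j => (eq_or_ne j i).elim (congrArg _) fun e =>
    sub_eq_zero.1 ((T.dot j i v).symm.trans (hv _ (T.rt_mem e (h j i))))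
  have h2 := (T.img _).1 ⟨v, rfl⟩
  rw [Finset.sum_congr rfl fun j _ => h1 j, Finset.sum_const, Finset.card_univ, Fintype.card_fin, nsmul_eq_mul] at h2
  exact (mul_eq_zero.1 h2).resolve_left (Nat.cast_ne_zero.2 i.pos.ne'))

theorem dat_of {U : Type} [Group U] (h : St (datS hk he S) e B) (T : TA (rts (datS hk he S)) B)
    (s : Nonempty (ScA (datS hk he S) U)) : Dat p U :=
  let ⟨m, κ, b, h1, _⟩ := T.ex
  ⟨k, _, _, inferInstance, _, _, _, _, _, _, _, _, datS hk he S, s, ⟨e, B, h⟩, .inl ⟨m, κ, b, h1⟩⟩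

variable {F : Type} [Field F] [Fintype F] (f : F →+* k)

theorem autSL (hF : Fintype.card F = p ^ e) (hn : 1 ≤ n) (h4 : n = 1 → 4 ≤ Fintype.card F)
    (β : MulAut (ProjectiveSpecialLinearGroup (Fin (n + 1)) F)) :
    KZ.Dat.Lf (datS hk he (smS n).sy_one) (fun _ => True) (ιL n f) (QuotientGroup.mk' _) β := by
  have : CharP F p := charP_of_card_eq_prime_pow hF
  have h1 := S2689.result hF he (n := n + 1) (by omega) fun h => h4 (by omega)
  refine lf_of_closure trivial (fun _ _ _ _ => trivial) ?_ ((Subgroup.closure_union _ _).ge (h1.ge (mem_top β)))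
  rintro β (⟨g, σ, h⟩ | h)
  · obtain ⟨j, hj⟩ := exists_frob p σ
    refine lf_gl hk he _ ((range_L f hF).le ⟨g, rfl⟩) ((okS n).au_fr hk he _ j) fun s => ?_
    obtain ⟨s', hs⟩ := exists_sl_conj g σ s
    refine ⟨s', (congrArg (GeneralLinearGroup.map f) hs).trans ?_, (h s s' (congrArg Units.val hs)).symm⟩
    rw [map_mul, map_mul, map_inv, ← frob_glmap f (σ := σ) hj]
    rfl
  · refine lf_gl hk he _ (inv_mem (mem_GFL.2 (map_pm _ Fin.revPerm))) ((okS n).au_sy hk he _ syS (fun _ _ h i => h _)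
      (Commute.one_right _)) fun s => ?_
    obtain ⟨s', hs⟩ := exists_sl f (g := itA _ F (SpecialLinearGroup.toGL s)) (by
      rw [map_itA, det_itA, inv_eq_one]; exact det_ιL f s)
    refine ⟨s', (congrArg (GeneralLinearGroup.map f) hs).trans ?_, (h s s' (congrArg Units.val hs)).symm⟩
    rw [map_itA, MulAut.mul_apply, MulAut.conj_apply, inv_inv, ← mul_assoc, inv_mul_cancel_right, inv_mul_cancel_left]
    rfl

theorem autSU (hF : Fintype.card F = (p ^ e) ^ 2) (hn : 2 ≤ n) (h2 : ¬ (n = 2 ∧ p ^ e = 2)) (β : MulAut (PSU (n + 1) F (p ^ e))) :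
    KZ.Dat.Lf (datS hk he (syS (n := n))) (fun _ => True) (ιU (lz n hk he) f (p ^ e)) (QuotientGroup.mk' _) β := by
  have : CharP F p := charP_of_card_eq_prime_pow (hF.trans (pow_mul p e 2).symm)
  have h1 := S2691.result rfl he hF (n := n + 1) (by omega) fun h => h2 ⟨by omega, h.2⟩
  refine lf_of_closure trivial (fun _ _ _ _ => trivial) ?_ (h1.ge (mem_top β))
  rintro β ⟨g, σ, hg, h⟩
  obtain ⟨j, hj⟩ := exists_frob p σ
  have h3 := mul_mem ((range_U f hk he hF).le ⟨⟨g, hg⟩, rfl⟩) (lz_mem hk he j)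
  refine lf_gl hk he _ h3 ((okS n).au_fr hk he _ j) fun s => ?_
  obtain ⟨s', hs⟩ := exists_sl_conj g σ s
  have h4 : lz n hk he * ιL n f s' * (lz n hk he)⁻¹ = jU f hk he ⟨g, hg⟩ * (lz n hk he * (frob p j (lz n hk he))⁻¹) *
      frob p j (ιU (lz n hk he) f (p ^ e) s) * (jU f hk he ⟨g, hg⟩ * (lz n hk he * (frob p j (lz n hk he))⁻¹))⁻¹ := by
    rw [show ιL n f s' = _ from congrArg (GeneralLinearGroup.map f) hs, map_mul, map_mul, map_inv,
      ← frob_glmap f (σ := σ) hj, ιU_apply, map_mul, map_mul, map_inv,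
      show jU f hk he ⟨g, hg⟩ = lz n hk he * GeneralLinearGroup.map f g * (lz n hk he)⁻¹ from rfl,
      show ιL n f s = GeneralLinearGroup.map f (SpecialLinearGroup.toGL s.1) from rfl]
    group
  have h5 : s' ∈ SU (n + 1) F (p ^ e) := (it_iff f hF (SpecialLinearGroup.toGL s')).1 ((conj_GFU hk he _).1 (h4 ▸
    mul_mem (mul_mem h3 (au_GF ((okA n).au_fr hk he syG j) ((mem_ιU f hk he hF _).1 ⟨s, rfl⟩).1)) (inv_mem h3)))
  exact ⟨⟨s', h5⟩, h4, (h s ⟨s', h5⟩ (congrArg Units.val hs)).symm⟩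

omit hk he

variable [CharP F p] {q : ℕ}

theorem odd_card (h : p ≠ 2) : Odd (Fintype.card F) := by
  obtain ⟨e, hp, h1⟩ := FiniteField.card F p
  exact h1 ▸ (hp.odd_of_ne_two h).pow

theorem mbL (hn : 2 ≤ n) (h2 : n = 2 → 4 ≤ Fintype.card F) :
    ∃ a, MB (ProjectiveSpecialLinearGroup (Fin n) F) (Nat.gcd n (Fintype.card F - 1) * p ^ a) := by
  by_cases h9 : n = 2 ∧ Fintype.card F = 9
  · obtain ⟨rfl, a⟩ := h9
    obtain rfl : p = 3 := Lo.Pr.eq_of (k := 2) Nat.prime_three a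
    obtain ⟨i⟩ := S0254.result a
    exact ⟨1, ((MB.of_cyc (S2116.result 6 (.inl rfl))).congr i).mono (by rw [a]; norm_num)⟩
  by_cases h : p = 2
  · exact ⟨4, h ▸ mb_psl hn h2 h9⟩
  · exact ⟨0, (mb_psl_odd (odd_card h) hn h2 h9).mono (by rw [card_ker_prL hn, pow_zero, mul_one])⟩

theorem mbU (hF : Fintype.card F = q ^ 2) (hn : 3 ≤ n) (h2 : ¬ (n = 3 ∧ q = 2)) :
    ∃ a, MB (PSU n F q) (Nat.gcd n (q + 1) * p ^ a) := by
  by_cases h9 : n = 4 ∧ q = 3
  · obtain ⟨rfl, rfl⟩ := h9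
    obtain rfl : p = 3 := Lo.Pr.eq_of (k := 2) Nat.prime_three hF
    exact ⟨2, (MB.of_mult (S2090.result hF)).mono (by rw [card_zmod3]; norm_num)⟩
  by_cases h : p = 2
  · exact ⟨2, h ▸ mb_psu hF hn h2 h9⟩
  · exact ⟨0, (mb_psu_odd (odd_q (odd_card h) hF) hF hn h9).mono (by rw [card_ker_prU hF hn, pow_zero, mul_one])⟩

/-- **the linear groups** -/
theorem dat_psl (hn : 2 ≤ n) (h2 : n = 2 → 4 ≤ Fintype.card F) : Dat p (ProjectiveSpecialLinearGroup (Fin n) F) := by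
  obtain ⟨a, ha⟩ := mbL (p := p) hn h2
  have h0 := sl_perf hn h2
  have h1 := card_ker_prL (F := F) hn
  obtain ⟨n, rfl⟩ : ∃ m, n = m + 1 := ⟨n - 1, by omega⟩
  obtain ⟨e, hp, hF⟩ := FiniteField.card F p
  have hk := lf_closure p F
  let f := algebraMap F (AlgebraicClosure F)
  let T := taS hk e.pos (smS n).sy_one 1 1 fun v i => by rw [one_mulVec, Units.val_one, one_mul]; rfl
  have : Nontrivial (Fin (n + 1)) := Fin.nontrivial_iff_two_le.2 hn
  refine dat_of hk e.pos _ (stL hk e.pos) T (scA_q (ιL n f) (ιL_inj f) (Subgroup.ext fun y => Iff.symm ((mem_ιL f hF y).trans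
    ⟨fun h => ⟨mem_GS.2 h.2, h.1.2⟩, fun h => ⟨⟨mem_GA y, h.2⟩, mem_GS.1 h.1⟩⟩)) h0
    (LieClassical.SLGen.psl_isSimpleGroup_of_perfect h0) (fun s hs => ?_) h1 (fun h => ?_) ha
    (autSL hk e.pos f hF (by omega) fun h => h2 (by omega)) (stL hk e.pos).qs (ntS e.pos (smS n).sy_one) (pi1S hk e.pos _)
    (ta_ss T fun _ _ => rfl))
  · obtain ⟨a, ha⟩ := center_ιL f hs
    exact ha ▸ sc_cen a
  · exact Lo.Pr.ne_of (k := 0) (Lo.Pr.dvd_card (F := F)) Fintype.one_lt_card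
      (by simpa using h.trans (Nat.gcd_dvd_right _ _)) rfl

/-- **the unitary groups** -/
theorem dat_psu (hF : Fintype.card F = q ^ 2) (hn : 3 ≤ n) (h2 : ¬ (n = 3 ∧ q = 2)) : Dat p (PSU n F q) := by
  obtain ⟨a, ha⟩ := mbU (p := p) hF hn h2
  have h0 := LieClassical.HermPerfect.commutator_SU_eq_top hF hn h2
  have h1 := card_ker_prU hF hn
  obtain ⟨n, rfl⟩ : ∃ m, n = m + 1 := ⟨n - 1, by omega⟩
  obtain ⟨d, hp, hd⟩ := FiniteField.card F p
  obtain ⟨e, -, rfl⟩ := (Nat.dvd_prime_pow hp).1 (hd ▸ hF ▸ dvd_pow_self q two_ne_zero : q ∣ p ^ (d : ℕ))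
  have he : 0 < e := Nat.pos_of_ne_zero fun h => (Fintype.one_lt_card (α := F)).ne' (by rw [hF, h, pow_zero, one_pow])
  have hk := lf_closure p F
  let f := algebraMap F (AlgebraicClosure F)
  let T := taS hk he (syS (n := n)) (-1) Fin.revPerm fun v i => by
    rw [BS_vec, Units.val_neg, Units.val_one, neg_one_mul]; exact wtA_gA v i
  refine dat_of hk he _ (stU hk he) T (scA_q (ιU (lz n hk he) f (p ^ e)) (ιU_inj _ f _) (Subgroup.ext fun y => Iff.symm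
    ((mem_ιU f hk he hF y).trans ⟨fun h => ⟨mem_GS.2 h.2, h.1.2⟩, fun h => ⟨⟨mem_GA y, h.2⟩, mem_GS.1 h.1⟩⟩)) h0
    (LieClassical.HermSimple.isSimpleGroup_of_perfect hF hn h0) (fun s hs => ?_) h1 (fun h => ?_) ha
    (autSU hk he f hF (by omega) fun h => h2 ⟨by omega, h.2⟩) (stU hk he).qs (ntS he syS) (pi1S hk he _)
    (ta_ss T fun _ _ => rfl))
  · obtain ⟨a, ha⟩ := center_ιU _ f hF (by omega) hs
    exact ha ▸ sc_cen a
  · exact hp.not_dvd_one ((Nat.dvd_add_right (dvd_pow_self p he.ne')).1 (h.trans (Nat.gcd_dvd_right _ _)))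

end Cfsg.Agent.OM.Gl
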