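import Cfsg.Agent.OM.Gl.Br
import Cfsg.Agent.OM.Gl.A
import Cfsg.Agent.OM.Au.All

/-!
# OM (S4894): the generic rows from the two last boxes (helper8)

* `data`, `lg_fin`.
-/

set_option autoImplicit false

namespace Cfsg.Agent.OM.Gl

open Cfsg Cfsg.Agent.HZ.L

/-- **the data** -/
theorem data : Data := Au.data_of (fun _ _ _ _ _ _ _ a b => dat_psl a b) fun _ _ _ _ _ _ _ _ a b c => dat_psu a b c

/-- **the generic rows** -/
theorem lg_fin (h : ∀ (p : ℕ) [Fact p.Prime], AllD p fun D => Lie.BoxQ D) (h2 : Tf4) : Lg := lg_of' data h h2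

end Cfsg.Agent.OM.Gl
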