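import Cfsg.Agent.OM.Gen.CovE
import Cfsg.Agent.OM.Gen.OT

/-!
# OM (S4894): the lift from an overgroup of a cover whose blocks have equal degrees (helper8)

* `Cmp i b` : the map `b` is compatible with the overgroup; `lift_of_eq_deg`.
-/

set_option autoImplicit false
set_option linter.unusedSectionVars false

namespace Cfsg.Agent.OM.Gl

open Cfsg Subgroup Cfsg.Agent.Characters.Core Cfsg.Agent.Blocks.Basic Cfsg.Agent.TID.Red Cfsg.Agent.OM.Gen
  Cfsg.Agent.OM.Gen.Cov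

variable {p : ℕ} {M : Ideal AlgInt} {X H K : Type} [Group X] [Group H] [Group K]

/-- `b` extends to the overgroup modulo the centre -/
def Cmp (i : H →* K) (b : H → H) : Prop :=
  ∃ μ : K → K, (∀ k x y, i y = k * i x * k⁻¹ → i (b y) = μ k * i (b x) * (μ k)⁻¹) ∧
    ∀ k k' x, i x = k * k' * k⁻¹ * k'⁻¹ → i (b x) = μ k * μ k' * (μ k)⁻¹ * (μ k')⁻¹

theorem cm_cen {m n m' n' : K} (h : n⁻¹ * m ∈ center K) (h' : n'⁻¹ * m' ∈ center K) :
    m * m' * m⁻¹ * m'⁻¹ = n * n' * n⁻¹ * n'⁻¹ := by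
  calc _ = n * ((n⁻¹ * m) * m') * m⁻¹ * m'⁻¹ := by group
    _ = n * n' * ((n'⁻¹ * m') * n⁻¹) * m'⁻¹ := by rw [← mem_center_iff.1 h]; group
    _ = _ := by rw [← mem_center_iff.1 h']; group

/-- homomorphisms of a perfect group which agree modulo the centre -/
theorem hom_eq (hp : commutator H = ⊤) {f g : H →* X} (h : ∀ x, (g x)⁻¹ * f x ∈ center X) (x : H) : f x = g x :=
  (commutator_le (H₃ := f.eqLocus g)).2 (fun x _ y _ => by
    change f (x * y * x⁻¹ * y⁻¹) = g (x * y * x⁻¹ * y⁻¹)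
    simp only [map_mul, map_inv]
    exact cm_cen (h x) (h y)) (hp.ge (mem_top x))

/-- the action on the quotient -/
theorem exists_act (ψ : H →* X) (hψ : Function.Surjective ψ) {i : H →* K} (hi : Function.Injective i) [i.range.Normal]
    (hk : ∀ z, ψ z = 1 → i z ∈ center K) :
    ∃ a : K →* MulAut X, ∀ k x y, i y = k * i x * k⁻¹ → ψ y = a k (ψ x) := by
  obtain ⟨c, hc⟩ := exists_cj hi
  have h1 : ∀ k, ∃ f : X →* X, ∀ x, f (ψ x) = ψ (c k x) := fun k =>
    ⟨ψ.liftOfSurjective hψ ⟨ψ.comp (c k), fun z hz => by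
      change ψ (c k z) = 1
      rwa [hi (show i (c k z) = i z by rw [hc, mem_center_iff.1 (hk z hz), mul_inv_cancel_right])]⟩,
      fun x => ψ.liftOfRightInverse_comp_apply _ _ _ x⟩
  choose f hf using h1
  have h2 : ∀ k l x, f (k * l) x = f k (f l x) := fun k l => hψ.forall.2 fun x => by
    rw [hf, hf, hf, hi (show i (c (k * l) x) = i (c k (c l x)) by rw [hc, hc, hc]; group)]
  have h3 : ∀ x, f 1 x = x := hψ.forall.2 fun x => by rw [hf, hi (show i (c 1 x) = i x by rw [hc]; group)]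
  exact ⟨MonoidHom.mk' (fun k => MonoidHom.toMulEquiv (f k) (f k⁻¹)
    (MonoidHom.ext fun x => (h2 _ _ x).symm.trans (by rw [inv_mul_cancel, h3]; rfl))
    (MonoidHom.ext fun x => (h2 _ _ x).symm.trans (by rw [mul_inv_cancel, h3]; rfl))) fun k l => MulEquiv.ext (h2 k l),
    fun k x y e => (congrArg ψ (hi (e.trans (hc k x).symm))).trans (hf k x).symm⟩

variable [Finite X] [Finite H] [Finite K] {b : Set (IrrCharacter X)} {θ : IrrCharacter X}

/-- **the lift from equal degrees** -/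
theorem lift_of_eq_deg (hM : IsPModular p M) (Γ : Subgroup (MulAut X)) (ψ : H →* X) (hψ : Function.Surjective ψ)
    (i : H →* K) (hZ : ¬ p ∣ Nat.card (center X)) (hi : Function.Injective i) (hp : commutator H = ⊤)
    (hk : ∀ z, ψ z = 1 → i z ∈ center K) (hC : ∀ k, (∀ x, k * i x = i x * k) → k ∈ center K)
    (hc : commutator K ≤ i.range) (hΓ : ∀ α ∈ Γ, ∃ β : H → H, (∀ h, ψ (β h) = α (ψ h)) ∧ Cmp i β)
    (hb : IsPBlock M b) (hθ : θ ∈ b)
    (he : ∀ B χ, IsPBlock M B → χ ∈ B → Ov i ((χ : IrrCharacter K) : K → ℂ) (fun x => (θ : X → ℂ) (ψ x)) →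
      ∀ ξ ∈ B, ∀ ξ' ∈ B, charDegree (ξ : K → ℂ) = charDegree (ξ' : K → ℂ)) : ∃ θ, Lift p Γ b θ := by
  have := normal_of_ab fun x y : K => hc (commutator_mem_commutator (mem_top x) (mem_top y))
  have := hM.2.1.isPrime
  obtain ⟨a, ha⟩ := exists_act ψ hψ hi hk
  obtain ⟨c, h1⟩ := exists_cj hi
  obtain ⟨χ, h2⟩ := ov_up hi ⟨_, isIrr_comp ψ hψ θ.2⟩
  have h3 : IsPBlock M (blockOf M (χ : K → ℂ)) := ⟨χ, rfl⟩
  have h4 : ∀ k, a k = 1 → k ∈ center K := fun k e => hC k fun x => by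
    have h5 := hom_eq hp (f := (c k : H →* H)) (g := .id _) (fun x => mem_center_iff.2 fun y => hi (by
      simp only [map_mul i y, map_mul i _ y]
      refine mem_center_iff.1 (hk _ ?_) _
      rw [map_mul, map_inv, inv_mul_eq_one]
      exact ((ha k x _ (h1 k x)).trans (by rw [e]; rfl)).symm)) x
    exact mul_inv_eq_iff_eq_mul.1 ((h1 k x).symm.trans (congrArg i h5))
  refine nilCov2' hM Γ ψ hψ i a hZ hi hk ha hc (fun _ => ⟨h4, fun α hα => ?_⟩) hb
    (nil_of_eq_deg hM h3 (he _ χ h3 (mem_blockOf_self χ) h2)) hθ (mem_blockOf_self χ) h2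
  obtain ⟨β, h5, μ, h6, h7⟩ := hΓ α hα
  have h8 : ∀ k, a (μ k) = α * a k * α⁻¹ := fun k => eq_mul_inv_of_mul_eq (MulEquiv.ext (hψ.forall.2 fun x => by
    rw [MulAut.mul_apply, MulAut.mul_apply, ← ha k x _ (h1 k x), ← h5, ← h5, ha _ _ _ (h6 k x _ (h1 k x))]))
  refine ⟨fun k => ⟨_, h8 k⟩, fun k k' m m' x y e e' hx hy => ?_⟩
  rw [← h5, hi (hy.trans ((CovE.cm_congr h4 (e.trans (h8 k).symm) (e'.trans (h8 k').symm)).trans (h7 k k' x hx).symm))]

end Cfsg.Agent.OM.Gl
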