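import Cfsg.Agent.OM.Gl.Ad
import Cfsg.Agent.OM.Glue
import Cfsg.Agent.OM.Sp.C3.Ree
import Cfsg.Agent.HZ.L.RegT.Main

/-!
# OM (S4894): the last step (helper8)

* `covG_reg`, `covG_self`, `lg_of`.
-/

set_option autoImplicit false
set_option linter.unusedSectionVars false

namespace Cfsg.Agent.OM.Gl

open Cfsg Cfsg.Agent.DL Cfsg.Agent.DL.PP Cfsg.Agent.KZ.Lie Cfsg.Agent.HZ.L Cfsg.Agent.OM.Au Cfsg.Agent.TO.X.Cn Matrix

theorem Top.iso {R R' : Type} [Fintype R] [DecidableEq R] [Fintype R'] [DecidableEq R'] {Ψ : RS R} {Ψ' : RS R'}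
    (e : Iso Ψ' Ψ) (h : Top Ψ) : Top Ψ' :=
  h.imp (fun ⟨n, κ, b, h⟩ => ⟨n, κ, b, e.trans h⟩)
    (.imp e.trans (.imp e.trans (.imp e.trans (.imp e.trans (.imp e.trans e.trans)))))

variable {p : ℕ} [Fact p.Prime] {k : Type} [Field k] [CharP k p] [IsAlgClosed k] {Y : Type} [Group Y] {N : Type}
  [Fintype N] [DecidableEq N] {ρ : Y →* GL N k} {F : MulAut Y} {G : Subgroup Y} {D : Datum p ρ F G} [Fintype ↥(GF F G)]
  {f : Fr D} {j : ℕ} {B : Mat D.R} {S : Type} [Group S] {l : ℕ}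

attribute [local instance] Reg.gY Reg.fN Reg.dN Reg.fin

theorem RegX.pi1 {R : Reg D f j B} (h : RegX R) (h1 : Pi1 D 1) : Pi1 R.D' 1 := fun y n β hn e => by
  obtain ⟨P, hP⟩ := h.sp
  obtain ⟨a, ha⟩ := h.cw
  have h2 : ∀ β, cl R.D' β = R.J *ᵥ cl D (β ∘ a) := fun β => by
    change ∑ i, β i • R.D'.cw i = R.J *ᵥ ∑ i, β (a i) • D.cw i
    rw [mulVec_sum, ← a.sum_comp]
    exact Finset.sum_congr rfl fun i _ => by rw [ha, mulVec_smul]
  have h3 : n • P *ᵥ y = cl D (β ∘ a) := by rw [← mulVec_smul, e, h2, mulVec_mulVec, hP, one_mulVec]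
  obtain ⟨γ, h4⟩ := h1 _ n _ hn h3
  refine ⟨γ ∘ a.symm, smul_right_injective _ hn ?_⟩
  change n • _ = n • _
  rw [h2, Function.comp_assoc, a.symm_comp_self, Function.comp_id, ← h4, Nat.cast_one, one_smul, one_smul, e, h2, ← h3,
    mulVec_smul]

/-- **the row from the regular embedding** -/
theorem covG_reg (s : ScA D S) (h : St D j B) (hl : l ≠ p) (hQ : ∀ f (R : Reg D f j B), RegX R → QE R.D') : CovG p l S :=
  fun _ _ _ _ M _ _ _ H hZ => by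
  obtain ⟨f⟩ := nonempty_fr D
  obtain ⟨R, hR⟩ := exists_regX h f
  obtain ⟨ψ, h1, h2⟩ := s.exists_psi H hZ
  have := H.hM.2.1.isPrime
  obtain ⟨θ, hθ⟩ := Blocks.Basic.isPBlock_nonempty H.hb
  exact lift_reg s hR H h1 h2 hθ fun B χ h3 h4 h5 => hQ f R hR R.f' l M H.hM hl B h3 (s.q_reg H hZ hl h1 h2 hθ h R h3 h4 h5)

/-- **the row from the group itself** -/
theorem covG_self (s : ScA D S) (hl : l ≠ p) (hQ : QE D) : CovG p l S := fun _ _ _ _ M _ _ _ H hZ => by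
  obtain ⟨f⟩ := nonempty_fr D
  obtain ⟨ψ, h1, h2⟩ := s.exists_psi H hZ
  have := H.hM.2.1.isPrime
  obtain ⟨θ, hθ⟩ := Blocks.Basic.isPBlock_nonempty H.hb
  exact lift_self s H h1 h2 hθ fun B χ h3 h4 h5 => hQ f l M H.hM hl B h3 (s.q_sc H hZ hl h1 h2 hθ f h3 h4 h5)

theorem Dat.covG (hQ : BoxQ) (hl : l ≠ p) (h : Dat p S) : CovG p l S := by
  obtain ⟨k, _, _, _, Y, _, N, _, _, ρ, F, G, D, ⟨s⟩, ⟨j, B, h1⟩, h2⟩ := h
  have := D.amb.finite_GF G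
  have := Fintype.ofFinite ↥(GF F G)
  exact covG_reg s h1 hl fun f R hR => hQ p R.D' j R.B' R.st R.cz (hR.pi1 s.pi1) (h2.iso R.iso.symm)

/-- the row of the large Ree groups -/
def Tf4 : Prop := ∀ (p : ℕ) [Fact p.Prime], p ≠ 2 → ∀ (F : Type) [Field F] [Fintype F] (m : ℕ), 1 ≤ m →
  Fintype.card F = 2 ^ (2 * m + 1) → CovG 2 p (Lie.twistedF4 F (2 ^ m))

/-- **the generic rows** -/
theorem lg_of (E : Data) (hQ : BoxQ) (h2 : Tf4) : Lg where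
  psl r _ _ _ h F _ _ _ n a b := (E.psl r F n a b).covG hQ h
  psp r _ _ _ h F _ _ _ n a b := (E.psp r F n a b).covG hQ h
  psu r _ _ _ h F _ _ _ n q a b c := (E.psu r F n q a b c).covG hQ h
  oodd r _ _ _ h F _ _ _ n a b := (E.oodd r F n a b).covG hQ h
  oplus r _ _ _ h F _ _ _ n a := (E.oplus r F n a).covG hQ h
  ominus r _ _ _ h F _ _ _ n a b c d := (E.ominus r F n a b c d).covG hQ h
  g2 _ _ _ _ h _ _ _ _ a := row_g2 hQ h a
  f4 _ _ _ _ h _ _ _ _ := row_f4 hQ h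
  e6 r _ _ _ h F _ _ _ := (E.e6 r F).covG hQ h
  e7 r _ _ _ h F _ _ _ := (E.e7 r F).covG hQ h
  e8 _ _ _ _ h _ _ _ _ := row_e8 hQ h
  te6 r _ _ _ h F _ _ _ q a b := (E.te6 r F q a b).covG hQ h
  td4 r _ _ _ h F _ _ _ q a b := (E.td4 r F q a b).covG hQ h
  ree := C3.ree
  tf4 := h2

end Cfsg.Agent.OM.Gl
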